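import Groth.Prelude.Def_Red
import Mathlib.AlgebraicGeometry.Morphisms.UnderlyingMap
import Mathlib.AlgebraicGeometry.AffineScheme
import Mathlib.AlgebraicGeometry.Gluing
import Mathlib.CategoryTheory.Comma.Over.Pullback
import Mathlib.AlgebraicGeometry.PullbackCarrier
import Mathlib.CategoryTheory.Monoidal.Cartesian.Over
import Mathlib.CategoryTheory.Monoidal.Cartesian.Mon
import Mathlib.CategoryTheory.Monoidal.Cartesian.Grp
import Mathlib.RingTheory.Spectrum.Prime.Topology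

/-!
The kernel of reduction modulo a square-zero ideal in a group scheme is commutative.
The trick: for `I² = 0` the heap operation `(a, b, c) ↦ a - b + c` is a ring homomorphism on the
triples congruent modulo `I`, and points with values in that ring are determined by their three
restrictions.
-/

open CategoryTheory Limits AlgebraicGeometry PrimeSpectrum MonObj

universe u

namespace Groth.Agent.SqZeroKerComm

section Ring

variable {C : Type u} [CommRing C] (I : Ideal C)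

/-- Triples congruent modulo `I`. -/
def triples : Subring (C × C × C) where
  carrier := {x | x.1 - x.2.1 ∈ I ∧ x.2.2 - x.2.1 ∈ I}
  mul_mem' := by
    rintro x y ⟨h1, h2⟩ ⟨h3, h4⟩
    constructor
    · have := I.add_mem (I.mul_mem_right y.1 h1) (I.mul_mem_left x.2.1 h3)
      convert this using 1
      simp; ring
    · have := I.add_mem (I.mul_mem_right y.2.2 h2) (I.mul_mem_left x.2.1 h4)
      convert this using 1
      simp; ring
  one_mem' := by simp
  add_mem' := by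
    rintro x y ⟨h1, h2⟩ ⟨h3, h4⟩
    constructor
    · have := I.add_mem h1 h3; convert this using 1; simp; ring
    · have := I.add_mem h2 h4; convert this using 1; simp; ring
  zero_mem' := by simp
  neg_mem' := by
    rintro x ⟨h1, h2⟩
    constructor
    · have := I.neg_mem h1; convert this using 1; simp; ring
    · have := I.neg_mem h2; convert this using 1; simp; ring

def p1 : triples I →+* C := (RingHom.fst C (C × C)).comp (triples I).subtype
def p2 : triples I →+* C := ((RingHom.fst C C).comp (RingHom.snd C (C × C))).comp (triples I).subtype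
def p3 : triples I →+* C := ((RingHom.snd C C).comp (RingHom.snd C (C × C))).comp (triples I).subtype

variable {I}

/-- The heap operation. -/
def heap (hI : I * I = ⊥) : triples I →+* C where
  toFun x := x.1.1 - x.1.2.1 + x.1.2.2
  map_one' := by simp
  map_mul' x y := by
    obtain ⟨⟨a, b, c⟩, hab, hcb⟩ := x
    obtain ⟨⟨a', b', c'⟩, hab', hcb'⟩ := y
    simp only at hab hcb hab' hcb'
    have z : ∀ s ∈ I, ∀ t ∈ I, s * t = 0 := fun s hs t ht => by
      simpa [hI] using Ideal.mul_mem_mul hs ht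
    simp only [Subring.coe_mul, Prod.mk_mul_mk]
    linear_combination -z _ hab _ hcb' - z _ hcb _ hab'
  map_zero' := by simp
  map_add' x y := by simp; ring

/-- A ring map into triples. -/
def mk {A : Type u} [CommRing A] (f g h : A →+* C) (hfg : ∀ a, f a - g a ∈ I) (hhg : ∀ a, h a - g a ∈ I) :
    A →+* triples I :=
  (f.prod (g.prod h)).codRestrict (triples I) fun a => ⟨hfg a, hhg a⟩

lemma comap_p2_surjective (hI : I * I = ⊥) : Function.Surjective (PrimeSpectrum.comap (p2 I)) := by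
  intro P
  have hsurj : Function.Surjective (p2 I) := fun c => ⟨⟨(c, c, c), by simp, by simp⟩, rfl⟩
  have hker : RingHom.ker (p2 I) ≤ P.asIdeal := by
    intro x hx
    have hxx : x * x = 0 := by
      obtain ⟨⟨a, b, c⟩, hab, hcb⟩ := x
      have hb : b = 0 := hx
      subst hb
      simp only [sub_zero] at hab hcb
      have ha := Ideal.mul_mem_mul hab hab
      have hc := Ideal.mul_mem_mul hcb hcb
      rw [hI, Ideal.mem_bot] at ha hc
      apply Subtype.ext
      simp [ha, hc]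
    exact (P.isPrime.mem_or_mem (hxx ▸ P.asIdeal.zero_mem)).elim id id
  have : P ∈ Set.range (PrimeSpectrum.comap (p2 I)) := by
    rw [range_comap_of_surjective _ _ hsurj]
    exact hker
  exact this

end Ring

variable {R : Type u} [CommRing R]

theorem main (J : Ideal R) (hJ : J * J = ⊥)
    (X : Over (Spec (CommRingCat.of R))) [GrpObj X] (Y : Over (Spec (CommRingCat.of R))) (g g' : Y ⟶ X)
    (hg : (Over.pullback (Spec.map (CommRingCat.ofHom (Ideal.Quotient.mk J)))).map g = 1)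
    (hg' : (Over.pullback (Spec.map (CommRingCat.ofHom (Ideal.Quotient.mk J)))).map g' = 1) :
    g * g' = g' * g := by
  let π := Spec.map (CommRingCat.ofHom (Ideal.Quotient.mk J))
  haveI : Surjective π := ⟨fun p ↦ by
    have hp : J ≤ p.asIdeal := by
      intro j hj
      have hjj : j * j ∈ (⊥ : Ideal R) := hJ ▸ Ideal.mul_mem_mul hj hj
      rw [Ideal.mem_bot] at hjj
      exact (p.isPrime.mem_or_mem (hjj ▸ p.asIdeal.zero_mem)).elim id id
    have hr : p ∈ Set.range (PrimeSpectrum.comap (Ideal.Quotient.mk J)) := by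
      rw [range_comap_of_surjective _ _ Ideal.Quotient.mk_surjective, Ideal.mk_ker]
      exact hp
    exact hr⟩
  let i : pullback Y.hom π ⟶ Y.left := pullback.fst Y.hom π
  haveI : Surjective i := MorphismProperty.pullback_fst (P := @Surjective) _ _ ‹Surjective π›
  have h1 : (Over.pullback π).map (1 : Y ⟶ X) = 1 := Functor.map_one _
  have hi : ∀ h : Y ⟶ X, (Over.pullback π).map h = 1 → i ≫ h.left = i ≫ (1 : Y ⟶ X).left := by
    intro h hh
    have e := congrArg (fun q => q.left ≫ pullback.fst X.hom π) (hh.trans h1.symm)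
    simp only [Over.pullback_map_left] at e
    exact (pullback.lift_fst _ _ _).symm.trans (e.trans (pullback.lift_fst _ _ _))
  have hbase : ∀ h : Y ⟶ X, (Over.pullback π).map h = 1 → ∀ y, h.left y = (1 : Y ⟶ X).left y := by
    intro h hh y
    obtain ⟨z, rfl⟩ := i.surjective y
    exact congrArg (fun q : pullback Y.hom π ⟶ X.left ↦ q z) (hi h hh)
  refine Over.OverMorphism.ext (Scheme.hom_ext_of_forall _ _ fun y => ?_)
  obtain ⟨U, hU, hyU, -⟩ := exists_isAffineOpen_mem_and_subset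
    (x := (1 : Y ⟶ X).left y) (U := ⊤) trivial
  obtain ⟨V, hV, hyV, hVU⟩ := exists_isAffineOpen_mem_and_subset
    (x := y) (U := (1 : Y ⟶ X).left ⁻¹ᵁ U) hyU
  refine ⟨V, hyV, ?_⟩
  rw [← cancel_epi hV.isoSpec.inv, ← Category.assoc, ← Category.assoc, hV.isoSpec_inv_ι]
  -- the affine point
  obtain ⟨ρ, hρ⟩ := Spec.map_surjective (hV.fromSpec ≫ Y.hom)
  obtain ⟨τ, hτ⟩ := Spec.map_surjective (hU.fromSpec ≫ X.hom)
  let I : Ideal Γ(Y.left, V) := J.map ρ.hom
  have hI : I * I = ⊥ := by rw [← Ideal.map_mul, hJ, Ideal.map_bot]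
  let Z : Over (Spec (CommRingCat.of R)) := Over.mk (Spec.map ρ)
  let jZ : Z ⟶ Y := Over.homMk hV.fromSpec hρ.symm
  have hψ : ∀ h : Y ⟶ X, (Over.pullback π).map h = 1 →
      ∃ ψ : Γ(X.left, U) ⟶ Γ(Y.left, V), Spec.map ψ ≫ hU.fromSpec = hV.fromSpec ≫ h.left := by
    intro h hh
    have hle : Set.range (hV.fromSpec ≫ h.left) ⊆ Set.range hU.fromSpec := by
      rintro _ ⟨z, rfl⟩
      rw [hU.range_fromSpec]
      have : hV.fromSpec z ∈ V := by
        have := Set.mem_range_self (f := hV.fromSpec) z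
        rwa [hV.range_fromSpec] at this
      show h.left (hV.fromSpec z) ∈ (U : Set X.left)
      rw [hbase h hh]
      exact hVU this
    obtain ⟨ψ, hψ⟩ := Spec.map_surjective (IsOpenImmersion.lift hU.fromSpec _ hle)
    exact ⟨ψ, by rw [hψ, IsOpenImmersion.lift_fac]⟩
  obtain ⟨ψ, hψg⟩ := hψ g hg
  obtain ⟨ψ', hψg'⟩ := hψ g' hg'
  obtain ⟨ψ₁, hψ1⟩ := hψ 1 h1
  -- congruence modulo `I`
  let q : Γ(Y.left, V) ⟶ CommRingCat.of (Γ(Y.left, V) ⧸ I) := CommRingCat.ofHom (Ideal.Quotient.mk I)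
  let ρ₀ : CommRingCat.of (R ⧸ J) ⟶ CommRingCat.of (Γ(Y.left, V) ⧸ I) :=
    CommRingCat.ofHom (Ideal.quotientMap I ρ.hom Ideal.le_comap_map)
  have hsq : CommRingCat.ofHom (Ideal.Quotient.mk J) ≫ ρ₀ = ρ ≫ q :=
    CommRingCat.hom_ext (Ideal.quotientMap_comp_mk (I := I) (f := ρ.hom) Ideal.le_comap_map)
  let m : Spec (CommRingCat.of (Γ(Y.left, V) ⧸ I)) ⟶ pullback Y.hom π :=
    pullback.lift (Spec.map q ≫ hV.fromSpec) (Spec.map ρ₀) (by
      rw [Category.assoc, ← hρ, ← Spec.map_comp, ← Spec.map_comp, hsq])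
  have hcong : ∀ (h : Y ⟶ X) (φ : Γ(X.left, U) ⟶ Γ(Y.left, V)), (Over.pullback π).map h = 1 →
      Spec.map φ ≫ hU.fromSpec = hV.fromSpec ≫ h.left → ∀ a, φ.hom a - ψ₁.hom a ∈ I := by
    intro h φ hh hφ a
    have hm : m ≫ i = Spec.map q ≫ hV.fromSpec := pullback.lift_fst _ _ _
    have e : φ ≫ q = ψ₁ ≫ q := by
      refine Spec.map_injective ?_
      rw [← cancel_mono hU.fromSpec, Spec.map_comp, Spec.map_comp, Category.assoc, Category.assoc,
        hφ, hψ1, ← Category.assoc, ← Category.assoc, ← hm, Category.assoc, Category.assoc, hi h hh]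
    rw [← Ideal.Quotient.eq]
    exact congrArg (fun f : Γ(X.left, U) ⟶ CommRingCat.of (Γ(Y.left, V) ⧸ I) => f.hom a) e
  have hρI : ∀ r, ρ.hom r - ρ.hom r ∈ I := fun r => by rw [sub_self]; exact I.zero_mem
  -- the scheme of triples
  let D := CommRingCat.of (triples I)
  let ρ3 : CommRingCat.of R ⟶ D := CommRingCat.ofHom (mk ρ.hom ρ.hom ρ.hom hρI hρI)
  let Z3 : Over (Spec (CommRingCat.of R)) := Over.mk (Spec.map ρ3)
  let pr (π' : D ⟶ Γ(Y.left, V)) (hπ' : ρ3 ≫ π' = ρ) : Z ⟶ Z3 :=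
    Over.homMk (Spec.map π') (by
      show Spec.map π' ≫ Spec.map ρ3 = Spec.map ρ
      rw [← Spec.map_comp, hπ'])
  let q1 := pr (CommRingCat.ofHom (p1 I)) rfl
  let q2 := pr (CommRingCat.ofHom (p2 I)) rfl
  let q3 := pr (CommRingCat.ofHom (p3 I)) rfl
  let σ := pr (CommRingCat.ofHom (heap hI)) (by
    ext r
    show ρ.hom r - ρ.hom r + ρ.hom r = ρ.hom r
    ring)
  have hτψ : ∀ (h : Y ⟶ X) (φ : Γ(X.left, U) ⟶ Γ(Y.left, V)),
      Spec.map φ ≫ hU.fromSpec = hV.fromSpec ≫ h.left → τ ≫ φ = ρ := by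
    intro h φ hφ
    refine Spec.map_injective ?_
    rw [Spec.map_comp, hτ, ← Category.assoc, hφ, Category.assoc, Over.w h, hρ]
  have hτ1 := hτψ 1 ψ₁ hψ1
  -- points with values in triples
  have hmk : ∀ (ha : Y ⟶ X) (φ : Γ(X.left, U) ⟶ Γ(Y.left, V)) (hc : Y ⟶ X) (χ : Γ(X.left, U) ⟶ Γ(Y.left, V))
      (wa : (Over.pullback π).map ha = 1) (wc : (Over.pullback π).map hc = 1)
      (wφ : Spec.map φ ≫ hU.fromSpec = hV.fromSpec ≫ ha.left)
      (wχ : Spec.map χ ≫ hU.fromSpec = hV.fromSpec ≫ hc.left),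
      ∃ G : Z3 ⟶ X, q1 ≫ G = jZ ≫ ha ∧ q2 ≫ G = jZ ≫ (1 : Y ⟶ X) ∧ q3 ≫ G = jZ ≫ hc ∧
        (σ ≫ G).left = Spec.map (CommRingCat.ofHom
          ((heap hI).comp (mk φ.hom ψ₁.hom χ.hom (hcong ha φ wa wφ) (hcong hc χ wc wχ)))) ≫ hU.fromSpec := by
    intro ha φ hc χ hha hhc hφ hχ
    let ψ3 : Γ(X.left, U) ⟶ D :=
      CommRingCat.ofHom (mk φ.hom ψ₁.hom χ.hom (hcong ha φ hha hφ) (hcong hc χ hhc hχ))
    have hτ3 : τ ≫ ψ3 = ρ3 := by
      have e1 := hτψ ha φ hφ
      have e3 := hτψ hc χ hχ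
      refine CommRingCat.hom_ext (RingHom.ext fun r => Subtype.ext ?_)
      exact Prod.ext (congrArg (fun f => f.hom r) e1)
        (Prod.ext (congrArg (fun f => f.hom r) hτ1) (congrArg (fun f => f.hom r) e3))
    refine ⟨Over.homMk (Spec.map ψ3 ≫ hU.fromSpec) (by
      show (Spec.map ψ3 ≫ hU.fromSpec) ≫ X.hom = Spec.map ρ3
      rw [Category.assoc, ← hτ, ← Spec.map_comp, hτ3]), ?_, ?_, ?_, ?_⟩
    · refine Over.OverMorphism.ext ?_
      show Spec.map (CommRingCat.ofHom (p1 I)) ≫ Spec.map ψ3 ≫ hU.fromSpec = hV.fromSpec ≫ ha.left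
      rw [← Spec.map_comp_assoc, ← hφ]; rfl
    · refine Over.OverMorphism.ext ?_
      show Spec.map (CommRingCat.ofHom (p2 I)) ≫ Spec.map ψ3 ≫ hU.fromSpec = hV.fromSpec ≫ (1 : Y ⟶ X).left
      rw [← Spec.map_comp_assoc, ← hψ1]; rfl
    · refine Over.OverMorphism.ext ?_
      show Spec.map (CommRingCat.ofHom (p3 I)) ≫ Spec.map ψ3 ≫ hU.fromSpec = hV.fromSpec ≫ hc.left
      rw [← Spec.map_comp_assoc, ← hχ]; rfl
    · show Spec.map (CommRingCat.ofHom (heap hI)) ≫ Spec.map ψ3 ≫ hU.fromSpec = _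
      rw [← Spec.map_comp_assoc]; rfl
  obtain ⟨G, hG1, hG2, hG3, hGσ⟩ := hmk g ψ 1 ψ₁ hg h1 hψg hψ1
  obtain ⟨G', hG'1, hG'2, hG'3, hG'σ⟩ := hmk 1 ψ₁ g' ψ' h1 hg' hψ1 hψg'
  have hσG : σ ≫ G = jZ ≫ g := by
    refine Over.OverMorphism.ext (hGσ.trans ?_)
    show _ = hV.fromSpec ≫ g.left
    rw [← hψg]
    congr 2
    ext a
    show ψ.hom a - ψ₁.hom a + ψ₁.hom a = ψ.hom a
    ring
  have hσG' : σ ≫ G' = jZ ≫ g' := by
    refine Over.OverMorphism.ext (hG'σ.trans ?_)
    show _ = hV.fromSpec ≫ g'.left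
    rw [← hψg']
    congr 2
    ext a
    show ψ₁.hom a - ψ₁.hom a + ψ'.hom a = ψ'.hom a
    ring
  -- restrictions determine points
  have hdet : ∀ H H' : Z3 ⟶ X, q1 ≫ H = q1 ≫ H' → q2 ≫ H = q2 ≫ H' → q3 ≫ H = q3 ≫ H' →
      q2 ≫ H = jZ ≫ (1 : Y ⟶ X) → H = H' := by
    intro H H' e1 e2 e3 e0
    have hlift : ∀ K : Z3 ⟶ X, q2 ≫ K = jZ ≫ (1 : Y ⟶ X) →
        ∃ κ : Γ(X.left, U) ⟶ D, Spec.map κ ≫ hU.fromSpec = K.left := by
      intro K hK
      have hle : Set.range K.left ⊆ Set.range hU.fromSpec := by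
        rintro _ ⟨z, rfl⟩
        obtain ⟨w, rfl⟩ := comap_p2_surjective hI z
        have hw : K.left (Spec.map (CommRingCat.ofHom (p2 I)) w) = (1 : Y ⟶ X).left (hV.fromSpec w) :=
          congrArg (fun q : Z ⟶ X => q.left w) hK
        rw [hU.range_fromSpec]
        show K.left (Spec.map (CommRingCat.ofHom (p2 I)) w) ∈ (U : Set X.left)
        rw [hw]
        have : hV.fromSpec w ∈ V := by
          have := Set.mem_range_self (f := hV.fromSpec) w
          rwa [hV.range_fromSpec] at this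
        exact hVU this
      obtain ⟨κ, hκ⟩ := Spec.map_surjective (IsOpenImmersion.lift hU.fromSpec _ hle)
      exact ⟨κ, by rw [hκ, IsOpenImmersion.lift_fac]⟩
    obtain ⟨κ, hκ⟩ := hlift H e0
    obtain ⟨κ', hκ'⟩ := hlift H' (e2 ▸ e0)
    have hcomp : ∀ π' : D ⟶ Γ(Y.left, V), Spec.map π' ≫ H.left = Spec.map π' ≫ H'.left →
        κ ≫ π' = κ' ≫ π' := by
      intro π' he
      refine Spec.map_injective ?_
      rw [← cancel_mono hU.fromSpec, Spec.map_comp, Spec.map_comp, Category.assoc, Category.assoc,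
        hκ, hκ', he]
    have k1 := hcomp (CommRingCat.ofHom (p1 I)) (congrArg (fun q : Z ⟶ X => q.left) e1)
    have k2 := hcomp (CommRingCat.ofHom (p2 I)) (congrArg (fun q : Z ⟶ X => q.left) e2)
    have k3 := hcomp (CommRingCat.ofHom (p3 I)) (congrArg (fun q : Z ⟶ X => q.left) e3)
    have hκκ : κ = κ' := by
      refine CommRingCat.hom_ext (RingHom.ext fun a => Subtype.ext ?_)
      exact Prod.ext (congrArg (fun f => f.hom a) k1)
        (Prod.ext (congrArg (fun f => f.hom a) k2) (congrArg (fun f => f.hom a) k3))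
    refine Over.OverMorphism.ext ?_
    rw [← hκ, ← hκ', hκκ]
  have key : G * G' = G' * G := by
    refine hdet _ _ ?_ ?_ ?_ ?_
    · rw [comp_mul, comp_mul, hG1, hG'1, MonObj.comp_one, _root_.mul_one, _root_.one_mul]
    · rw [comp_mul, comp_mul, hG2, hG'2]
    · rw [comp_mul, comp_mul, hG3, hG'3, MonObj.comp_one, _root_.mul_one, _root_.one_mul]
    · rw [comp_mul, hG2, hG'2, MonObj.comp_one, _root_.mul_one]
  have e : jZ ≫ (g * g') = jZ ≫ (g' * g) := by
    rw [comp_mul, comp_mul, ← hσG, ← hσG', ← comp_mul, ← comp_mul, key]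
  exact congrArg (fun q : Z ⟶ X => q.left) e

end Groth.Agent.SqZeroKerComm
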